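import Cfsg.Agent.H646.CY.UAct
import Cfsg.Agent.H711.DPol.Geo
import Cfsg.Agent.H697.HT.DPB0

/-!
# The dual polar scheme of `PSU_n(q)` (helper646, for S4933)

`psu_dp` : `PSU n F q`, `n = 2 m + f`, `f ≤ 1`, acts on the maximal totally isotropic subspaces as on a dual polar space of
rank `m` with parameters `Q = q ^ 2`, `s = q ^ (2 f + 1)`, and every automorphism is induced by an isometry of the scheme.
-/

set_option autoImplicit false

open Module

namespace Cfsg.Agent.H646.HT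

open Cfsg Matrix
open Cfsg.Agent.H2.Pol Cfsg.Agent.H646.BR Cfsg.Agent.H646.BR.U Cfsg.Agent.H623.BR Cfsg.Agent.H646.CY
open Cfsg.Agent.H711.DPol
open Cfsg.Agent.LieClassical.HermBasic Cfsg.Agent.LieClassical.HermSiegel Cfsg.Agent.LieClassical.SUBasic
open Cfsg.Agent.ClassicalGeometry.PSUAutBasic Cfsg.Agent.ClassicalGeometry.PSUAutCount

section count

variable {F V : Type*} [Field F] [Finite F] [AddCommGroup V] [Module F V] [FiniteDimensional F V] {Φ : Pol F V}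

/-- double counting of the pairs `T ≤ W` -/
theorem reg_mul {cc : ℕ → ℕ} (h : Φ.Reg cc) (k : ℕ) :
    Nat.card (Φ.X k) * cc k = Nat.card (Φ.X (k + 1)) * br (Nat.card F) (k + 1) := by
  classical
  have _ := Fintype.ofFinite (Φ.X k)
  have _ := Fintype.ofFinite (Φ.X (k + 1))
  have h1 : Nat.card (Σ U : Φ.X k, {W : Φ.X (k + 1) // U.1 ≤ W.1}) = Nat.card (Φ.X k) * cc k := by
    rw [Nat.card_sigma, Finset.sum_congr rfl fun U _ => h k U, Finset.sum_const, Finset.card_univ, smul_eq_mul,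
      Nat.card_eq_fintype_card (α := Φ.X k)]
  have h2 : Nat.card (Σ W : Φ.X (k + 1), {U : Φ.X k // U.1 ≤ W.1}) =
      Nat.card (Φ.X (k + 1)) * br (Nat.card F) (k + 1) := by
    have h3 : ∀ W : Φ.X (k + 1), Nat.card {U : Φ.X k // U.1 ≤ W.1} = br (Nat.card F) (k + 1) := by
      intro W
      rw [← card_Hyp W]
      exact Nat.card_congr
        { toFun := fun U => ⟨U.1.1, U.2, by rw [U.1.2.2]⟩
          invFun := fun T => ⟨⟨T.1, W.2.1.mono T.2.1, by have := T.2.2; omega⟩, T.2.1⟩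
          left_inv := fun _ => rfl
          right_inv := fun _ => rfl }
    rw [Nat.card_sigma, Finset.sum_congr rfl fun W _ => h3 W, Finset.sum_const, Finset.card_univ, smul_eq_mul,
      Nat.card_eq_fintype_card (α := Φ.X (k + 1))]
  rw [← h1, ← h2]
  exact Nat.card_congr
    { toFun := fun x => ⟨x.2.1, ⟨x.1, x.2.2⟩⟩
      invFun := fun x => ⟨x.2.1, ⟨x.1, x.2.2⟩⟩
      left_inv := fun _ => rfl
      right_inv := fun _ => rfl }

/-- the type of a pair of maximal spaces -/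
theorem typ_max {m : ℕ} (hmax : IsEmpty (Φ.X (m + 1))) (U W : Φ.X m) :
    typ Φ U.1 W.1 = (finrank F ↥(U.1 ⊓ W.1), finrank F ↥(U.1 ⊓ W.1)) := by
  have h1 : U.1 ⊓ Φ.perp W.1 = U.1 ⊓ W.1 := by
    refine le_antisymm ?_ (inf_le_inf_left _ (Φ.orth_iff_le_perp.1 W.2.1.orth))
    have h2 : Φ.TI (W.1 ⊔ (U.1 ⊓ Φ.perp W.1)) :=
      W.2.1.sup (U.2.1.mono inf_le_left) (Φ.orth_iff_le_perp.2 (le_perp_symm inf_le_right))
    have h3 := le_max hmax h2
    have h4 : W.1 = W.1 ⊔ (U.1 ⊓ Φ.perp W.1) :=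
      eq_of_le_finrank (U := W.1) (W := W.1 ⊔ (U.1 ⊓ Φ.perp W.1)) le_sup_left (by rw [W.2.2]; exact h3)
    have h5 : U.1 ⊓ Φ.perp W.1 ≤ W.1 ⊔ (U.1 ⊓ Φ.perp W.1) := le_sup_right
    rw [← h4] at h5
    exact le_inf inf_le_left h5
  unfold typ
  rw [h1]

end count

section psu

variable {F : Type*} [Field F] [Fintype F] {n q : ℕ}

theorem isEmpty_uX (hF : Fintype.card F = q ^ 2) {k : ℕ} (h : n < 2 * k) : IsEmpty (uX hF n k) :=
  ⟨fun U => by have := H666.BR.two_mul_le hF U; omega⟩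

theorem br_eq (Q k : ℕ) : ((Q : ℤ) - 1) * (br Q k : ℤ) = (Q : ℤ) ^ k - 1 := by
  unfold br
  push_cast
  rw [mul_comm, geom_sum_mul]

/-- every totally isotropic `(m-1)`-space lies in `q ^ (2 f + 1) + 1` maximal ones -/
theorem thick_psu (hF : Fintype.card F = q ^ 2) {m f : ℕ} (hnm : n = 2 * m + f) (hf : f ≤ 1) :
    Thick (hpol hF n) m (q ^ (2 * f + 1)) := by
  obtain ⟨cc, hcc⟩ := exists_reg hF n
  refine Thick.of_reg hcc ?_
  rcases m with _ | m
  · exact Or.inl rfl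
  refine Or.inr ?_
  rw [Nat.add_sub_cancel]
  have hq := two_le hF
  have h1 := reg_mul hcc m
  have h2 := H666.BR.card_uX_mul hF (n := n) (k := m + 1) (m := f) (by omega)
  have h3 := H666.BR.card_uX_mul hF (n := n) (k := m) (m := f + 2) (by omega)
  rw [Finset.prod_range_succ] at h2
  have h4 : ∏ i ∈ Finset.range (2 * (m + 1)), ((q : ℤ) ^ (f + i + 1) - (-1) ^ (f + i + 1)) =
      (((q : ℤ) ^ (f + 1) - (-1) ^ (f + 1)) * ((q : ℤ) ^ (f + 2) - (-1) ^ (f + 2))) *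
        ∏ i ∈ Finset.range (2 * m), ((q : ℤ) ^ (f + 2 + i + 1) - (-1) ^ (f + 2 + i + 1)) := by
    rw [show 2 * (m + 1) = 2 + 2 * m by ring, Finset.prod_range_add, Finset.prod_range_succ, Finset.prod_range_one]
    congr 1
    refine Finset.prod_congr rfl fun i _ => ?_
    rw [show f + (2 + i) + 1 = f + 2 + i + 1 by ring]
  rw [h4, ← h3] at h2
  have hP : ∏ j ∈ Finset.range m, ((q : ℤ) ^ (2 * (j + 1)) - 1) ≠ 0 := by
    refine Finset.prod_ne_zero_iff.2 fun j _ => ?_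
    have h5 : (1 : ℤ) < (q : ℤ) ^ (2 * (j + 1)) := one_lt_pow₀ (by exact_mod_cast hq) (by omega)
    omega
  have h5 : (Nat.card (uX hF n (m + 1)) : ℤ) * ((q : ℤ) ^ (2 * (m + 1)) - 1) =
      (((q : ℤ) ^ (f + 1) - (-1) ^ (f + 1)) * ((q : ℤ) ^ (f + 2) - (-1) ^ (f + 2))) * (Nat.card (uX hF n m) : ℤ) := by
    apply mul_right_cancel₀ hP
    linear_combination h2
  have h6 : (Nat.card (uX hF n m) : ℤ) * (cc m : ℤ) =
      (Nat.card (uX hF n (m + 1)) : ℤ) * (br (q ^ 2) (m + 1) : ℤ) := by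
    rw [← hF, ← Nat.card_eq_fintype_card]
    exact_mod_cast h1
  have h7 := br_eq (q ^ 2) (m + 1)
  push_cast at h7
  have hne : (Nat.card (uX hF n m) : ℤ) ≠ 0 := by
    have := H666.BR.nonempty_uX (n := n) hF (k := m) (by omega)
    exact_mod_cast Nat.card_pos.ne'
  have hq2 : ((q : ℤ) ^ 2 - 1) ≠ 0 := by
    have h5 : (1 : ℤ) < (q : ℤ) ^ 2 := one_lt_pow₀ (by exact_mod_cast hq) (by omega)
    omega
  have h8 : ((q : ℤ) ^ 2 - 1) * (cc m : ℤ) =
      ((q : ℤ) ^ (f + 1) - (-1) ^ (f + 1)) * ((q : ℤ) ^ (f + 2) - (-1) ^ (f + 2)) := by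
    apply mul_left_cancel₀ hne
    have h9 : (q : ℤ) ^ (2 * (m + 1)) = ((q : ℤ) ^ 2) ^ (m + 1) := by rw [← pow_mul]
    rw [h9] at h5
    linear_combination ((q : ℤ) ^ 2 - 1) * h6 + (Nat.card (uX hF n (m + 1)) : ℤ) * h7 + h5
  have h9 : (cc m : ℤ) = (q : ℤ) ^ (2 * f + 1) + 1 := by
    apply mul_left_cancel₀ hq2
    rw [h8]
    rcases Nat.le_one_iff_eq_zero_or_eq_one.1 hf with rfl | rfl
    · ring
    · ring
  exact_mod_cast h9

end psu

theorem cd_psu {F : Type*} [Field F] [Fintype F] {n q m : ℕ} (hF : Fintype.card F = q ^ 2) (hn : 3 ≤ n)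
    (h32 : ¬ (n = 3 ∧ q = 2)) (g : PSU n F q) (x y : uX hF n m) :
    letI := psuAct hF hn m; cd (g • x) (g • y) = cd x y := by
  let _ := psuAct hF hn m
  have h1 := psuAutAct_typ hF hn h32 m (MulAut.conj g) x y
  rw [psuAutAct_conj, psuAutAct_conj] at h1
  exact congrArg (m - ·) (congrArg Prod.fst h1)

/-- **the dual polar scheme of `PSU_n(q)`** -/
theorem psu_dp {F : Type} [Field F] [Fintype F] {n q m f : ℕ} (hF : Fintype.card F = q ^ 2) (hn : 3 ≤ n)
    (h32 : ¬ (n = 3 ∧ q = 2)) (hnm : n = 2 * m + f) (hf : f ≤ 1) :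
    ∃ (X : Type) (_ : MulAction (PSU n F q) X) (_ : Finite X) (_ : Nonempty X) (d : X → X → ℕ),
      Cfsg.Agent.H722.DPol.DP (PSU n F q) X d m (q ^ 2) (q ^ (2 * f + 1)) ∧
        ∀ γ : PSU n F q ≃* PSU n F q, Cfsg.Agent.H697.HT.DPB0.Iso d γ := by
  have hmax : IsEmpty ((hpol hF n).X (m + 1)) := isEmpty_uX hF (by omega)
  have hs := thick_psu (n := n) hF hnm hf
  have hcard : Nat.card F = q ^ 2 := by rw [Nat.card_eq_fintype_card, hF]
  refine ⟨uX hF n m, psuAct hF hn m, inferInstance, H666.BR.nonempty_uX (n := n) hF (by omega), cd, ?_, ?_⟩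
  · let _ := psuAct hF hn m
    refine ⟨?_, ?_, cd_eq_zero, cd_comm, cd_le, fun x y z h => (cd_step hmax h).1, ?_, ?_⟩
    · intro g x y
      exact cd_psu hF hn h32 g x y
    · intro x y x' y' h
      refine H158.BR.psu_pairs hF hn x y x' y' ?_
      rw [typ_max hmax, typ_max hmax, finrank_inf_eq, finrank_inf_eq, h]
    · intro x y
      have h1 := card_up hmax hs (x := x) (y := y) rfl
      rw [hcard] at h1
      exact h1
    · intro x y
      have h1 := card_down hmax (x := x) (y := y) rfl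
      rw [hcard] at h1
      exact h1
  · intro γ
    let _ := psuAct hF hn m
    obtain ⟨σ, h1, h2⟩ := psu_real hF hn h32 m (γ : MulAut (PSU n F q))
    refine ⟨σ, fun g x => (h1 g x).symm, fun x y => ?_⟩
    have h3 := congrArg Prod.fst (h2 x y)
    exact congrArg (m - ·) h3

end Cfsg.Agent.H646.HT
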